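import Mathlib

/-!
# Transitive groups of degree `p + 1` and order `(p + 1) p d`, `d < p`: basic structure

(author: helper5)  The point stabiliser has a normal subgroup `P` of order `p`, regular on the other
points; the group is doubly transitive, no nonidentity element fixes three points, and the
two-point stabilisers have order `d`.
-/

set_option autoImplicit false
set_option linter.unusedVariables false
set_option linter.unusedSectionVars false
set_option linter.style.haveILetI false

namespace Cfsg.Agent.Lib.Helper5.PP1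

variable {G Ω : Type*} [Group G] [Finite G] [MulAction G Ω] [Fintype Ω]

theorem card_stab [MulAction.IsPretransitive G Ω] {p d : ℕ} (hΩ : Fintype.card Ω = p + 1)
    (hG : Nat.card G = (p + 1) * p * d) (a : Ω) :
    Nat.card (MulAction.stabilizer G a) = p * d := by
  have h1 := MulAction.index_stabilizer_of_transitive G a
  have h2 := Subgroup.card_mul_index (MulAction.stabilizer G a)
  rw [h1, Nat.card_eq_fintype_card (α := Ω), hΩ, hG] at h2
  have h4 : (p + 1) * Nat.card (MulAction.stabilizer G a) = (p + 1) * (p * d) := by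
    rw [← mul_assoc, ← h2]; ring
  exact Nat.eq_of_mul_eq_mul_left (by omega) h4

theorem d_pos {p d : ℕ} (hG : Nat.card G = (p + 1) * p * d) : 0 < d := by
  rcases Nat.eq_zero_or_pos d with h | h
  · rw [h, mul_zero] at hG
    exact absurd hG (Nat.card_pos).ne'
  · exact h

/-- the normal subgroup of order `p` of the point stabiliser -/
theorem exists_kernel [FaithfulSMul G Ω] [MulAction.IsPretransitive G Ω] {p d : ℕ} (hp : p.Prime)
    (hΩ : Fintype.card Ω = p + 1) (hG : Nat.card G = (p + 1) * p * d) (hd : d < p) (a : Ω) :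
    ∃ P : Subgroup G, Nat.card P = p ∧ (∀ k ∈ P, k • a = a) ∧
      (∀ g : G, g • a = a → ∀ k ∈ P, g * k * g⁻¹ ∈ P) ∧
      (∀ c : Ω, c ≠ a → ∃ k ∈ P, k • c ≠ c) := by
  classical
  haveI : Fact p.Prime := ⟨hp⟩
  have hd0 : 0 < d := d_pos hG
  have hS := card_stab hΩ hG a
  obtain ⟨P'⟩ : Nonempty (Sylow p (MulAction.stabilizer G a)) := inferInstance
  have hfac : (p * d).factorization p = 1 := by
    rw [Nat.factorization_mul hp.ne_zero hd0.ne', Finsupp.add_apply, hp.factorization_self,
      Nat.factorization_eq_zero_of_not_dvd (fun h => by have := Nat.le_of_dvd hd0 h; omega)]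
  have hP'card : Nat.card P' = p := by
    rw [P'.card_eq_multiplicity, hS, hfac, pow_one]
  have hidx : (P' : Subgroup (MulAction.stabilizer G a)).index = d := by
    have h1 := Subgroup.card_mul_index (P' : Subgroup (MulAction.stabilizer G a))
    rw [hS] at h1
    have h2 : Nat.card (P' : Subgroup (MulAction.stabilizer G a)) = p := hP'card
    rw [h2] at h1
    exact Nat.eq_of_mul_eq_mul_left hp.pos h1
  have hone : Nat.card (Sylow p (MulAction.stabilizer G a)) = 1 := by
    have h1 := P'.card_dvd_index
    rw [hidx] at h1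
    have h2 := card_sylow_modEq_one p (MulAction.stabilizer G a)
    have h3 := Nat.le_of_dvd hd0 h1
    have h4 : Nat.card (Sylow p (MulAction.stabilizer G a)) % p = 1 % p := h2
    rw [Nat.mod_eq_of_lt (by omega), Nat.mod_eq_of_lt hp.one_lt] at h4
    exact h4
  haveI : Subsingleton (Sylow p (MulAction.stabilizer G a)) :=
    (Nat.card_eq_one_iff_unique.1 hone).1
  have hnorm : (P' : Subgroup (MulAction.stabilizer G a)).Normal := P'.normal_of_subsingleton
  have hPcard : Nat.card ((P' : Subgroup (MulAction.stabilizer G a)).map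
      (MulAction.stabilizer G a).subtype) = p := by
    rw [Subgroup.card_map_of_injective (MulAction.stabilizer G a).subtype_injective]
    exact hP'card
  have hPa : ∀ k ∈ (P' : Subgroup (MulAction.stabilizer G a)).map
      (MulAction.stabilizer G a).subtype, k • a = a := by
    rintro k ⟨k', -, rfl⟩
    exact k'.2
  refine ⟨(P' : Subgroup (MulAction.stabilizer G a)).map (MulAction.stabilizer G a).subtype,
    hPcard, hPa, ?_, ?_⟩
  · rintro g hg k ⟨k', hk', rfl⟩
    exact ⟨⟨g, hg⟩ * k' * ⟨g, hg⟩⁻¹, hnorm.conj_mem k' hk' ⟨g, hg⟩, rfl⟩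
  · intro c hc
    by_contra hcon
    push Not at hcon
    set P := (P' : Subgroup (MulAction.stabilizer G a)).map (MulAction.stabilizer G a).subtype
      with hPdef
    have hPp : IsPGroup p P := IsPGroup.of_card (n := 1) (by rw [hPcard, pow_one])
    have hmod := hPp.card_modEq_card_fixedPoints Ω
    rw [Nat.card_eq_fintype_card (α := Ω), hΩ] at hmod
    have ha_mem : a ∈ MulAction.fixedPoints P Ω := fun k => hPa k k.2
    have hc_mem : c ∈ MulAction.fixedPoints P Ω := fun k => hcon k k.2
    haveI : Nontrivial (MulAction.fixedPoints P Ω) :=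
      ⟨⟨⟨a, ha_mem⟩, ⟨c, hc_mem⟩, fun h => hc (congrArg Subtype.val h).symm⟩⟩
    have h2 : 1 < Nat.card (MulAction.fixedPoints P Ω) := Finite.one_lt_card
    have h3 : Nat.card (MulAction.fixedPoints P Ω) ≤ p + 1 := by
      have := Nat.card_le_card_of_injective (Subtype.val : MulAction.fixedPoints P Ω → Ω)
        Subtype.val_injective
      rwa [Nat.card_eq_fintype_card (α := Ω), hΩ] at this
    have h4 : Nat.card (MulAction.fixedPoints P Ω) = p + 1 := by
      have h5 : (p + 1) % p = Nat.card (MulAction.fixedPoints P Ω) % p := hmod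
      have h6 : (p + 1) % p = 1 := by
        rw [Nat.add_mod, Nat.mod_self, zero_add, Nat.mod_mod, Nat.mod_eq_of_lt hp.one_lt]
      rw [h6] at h5
      by_contra hne
      have h7 : Nat.card (MulAction.fixedPoints P Ω) ≤ p := by omega
      rcases Nat.lt_or_ge (Nat.card (MulAction.fixedPoints P Ω)) p with h8 | h8
      · rw [Nat.mod_eq_of_lt h8] at h5
        omega
      · have h9 : Nat.card (MulAction.fixedPoints P Ω) = p := by omega
        rw [h9, Nat.mod_self] at h5
        omega
    have hbij : Function.Bijective (Subtype.val : MulAction.fixedPoints P Ω → Ω) :=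
      Subtype.val_injective.bijective_of_nat_card_le (by
        rw [h4, Nat.card_eq_fintype_card (α := Ω), hΩ])
    have hall : ∀ k ∈ P, k = 1 := by
      intro k hk
      apply FaithfulSMul.eq_of_smul_eq_smul (α := Ω)
      intro x
      obtain ⟨⟨y, hy⟩, rfl⟩ := hbij.2 x
      rw [one_smul]
      exact hy ⟨k, hk⟩
    have hbot : P = ⊥ := (Subgroup.eq_bot_iff_forall _).2 hall
    rw [hbot, Subgroup.card_bot] at hPcard
    exact hp.one_lt.ne hPcard

end Cfsg.Agent.Lib.Helper5.PP1
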