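import Cfsg.Agent.Lib.Helper5.PP1.Basic
import Mathlib

/-!
# Transitive groups of degree `p + 1` and order `(p + 1) p d`, `d < p`: consequences of the kernel

(author: helper5)
-/

set_option autoImplicit false
set_option linter.unusedVariables false
set_option linter.unusedSectionVars false
set_option linter.style.haveILetI false

namespace Cfsg.Agent.Lib.Helper5.PP1

variable {G Ω : Type*} [Group G] [Finite G] [MulAction G Ω] [Fintype Ω]

/-- the kernel data -/
structure Ker (G Ω : Type*) [Group G] [MulAction G Ω] (p : ℕ) (a : Ω) (P : Subgroup G) : Prop where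
  card : Nat.card P = p
  fix : ∀ k ∈ P, k • a = a
  norm : ∀ g : G, g • a = a → ∀ k ∈ P, g * k * g⁻¹ ∈ P
  move : ∀ c : Ω, c ≠ a → ∃ k ∈ P, k • c ≠ c

theorem exists_ker [FaithfulSMul G Ω] [MulAction.IsPretransitive G Ω] {p d : ℕ} (hp : p.Prime)
    (hΩ : Fintype.card Ω = p + 1) (hG : Nat.card G = (p + 1) * p * d) (hd : d < p) (a : Ω) :
    ∃ P : Subgroup G, Ker G Ω p a P := by
  obtain ⟨P, h1, h2, h3, h4⟩ := exists_kernel hp hΩ hG hd a
  exact ⟨P, ⟨h1, h2, h3, h4⟩⟩

section
variable {p : ℕ} {a : Ω} {P : Subgroup G} (hK : Ker G Ω p a P) (hp : p.Prime)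
  (hΩ : Fintype.card Ω = p + 1)
include hK hp

/-- `P` is semiregular off `a` -/
theorem Ker.semi : ∀ k ∈ P, ∀ c : Ω, c ≠ a → k • c = c → k = 1 := by
  intro k hk c hc hkc
  have hle : P ⊓ MulAction.stabilizer G c ≤ P := inf_le_left
  have hdvd : Nat.card ↥(P ⊓ MulAction.stabilizer G c) ∣ p := by
    rw [← hK.card]
    exact Subgroup.card_dvd_of_le hle
  rcases (Nat.dvd_prime hp).1 hdvd with h1 | h1
  · have h2 : P ⊓ MulAction.stabilizer G c = ⊥ := Subgroup.eq_bot_of_card_eq _ h1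
    have h3 : k ∈ P ⊓ MulAction.stabilizer G c := ⟨hk, hkc⟩
    rw [h2, Subgroup.mem_bot] at h3
    exact h3
  · exfalso
    have h2 : P ⊓ MulAction.stabilizer G c = P :=
      Subgroup.eq_of_le_of_card_ge hle (by rw [h1, hK.card])
    obtain ⟨k', hk', hk'c⟩ := hK.move c hc
    have h3 : k' ∈ P ⊓ MulAction.stabilizer G c := by rw [h2]; exact hk'
    exact hk'c h3.2

include hΩ

/-- `P` is transitive off `a` -/
theorem Ker.trans : ∀ c c' : Ω, c ≠ a → c' ≠ a → ∃ k ∈ P, k • c = c' := by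
  classical
  have : Fintype P := Fintype.ofFinite P
  intro c c' hc hc'
  have hinj : Function.Injective (fun k : P => (k : G) • c) := by
    intro k k' hkk
    have h1 : ((k' : G)⁻¹ * k) • c = c := by
      rw [mul_smul]
      have : (k : G) • c = (k' : G) • c := hkk
      rw [this, inv_smul_smul]
    have h2 := hK.semi hp _ (P.mul_mem (P.inv_mem k'.2) k.2) c hc h1
    exact Subtype.ext (inv_mul_eq_one.1 h2).symm
  have himg : (Finset.univ : Finset P).image (fun k : P => (k : G) • c) =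
      (Finset.univ : Finset Ω).erase a := by
    apply Finset.eq_of_subset_of_card_le
    · intro x hx
      obtain ⟨k, -, rfl⟩ := Finset.mem_image.1 hx
      rw [Finset.mem_erase]
      refine ⟨?_, Finset.mem_univ _⟩
      intro h'
      have : (k : G) • c = (k : G) • a := by rw [h', hK.fix _ k.2]
      exact hc (MulAction.injective _ this)
    · rw [Finset.card_image_of_injective _ hinj, Finset.card_univ,
        Finset.card_erase_of_mem (Finset.mem_univ a), Finset.card_univ, hΩ,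
        ← Nat.card_eq_fintype_card, hK.card]
      omega
  have hc'mem : c' ∈ (Finset.univ : Finset Ω).erase a :=
    Finset.mem_erase.2 ⟨hc', Finset.mem_univ _⟩
  rw [← himg] at hc'mem
  obtain ⟨k, -, hk⟩ := Finset.mem_image.1 hc'mem
  exact ⟨k, k.2, hk⟩

/-- double transitivity -/
theorem Ker.two_trans [MulAction.IsPretransitive G Ω] {x y x' y' : Ω} (hxy : x ≠ y)
    (hxy' : x' ≠ y') : ∃ g : G, g • x = x' ∧ g • y = y' := by
  obtain ⟨g₁, hg₁⟩ := MulAction.exists_smul_eq G x a
  obtain ⟨g₂, hg₂⟩ := MulAction.exists_smul_eq G x' a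
  have h1 : g₁ • y ≠ a := by
    intro h'
    rw [← hg₁] at h'
    exact hxy (MulAction.injective _ h').symm
  have h2 : g₂ • y' ≠ a := by
    intro h'
    rw [← hg₂] at h'
    exact hxy' (MulAction.injective _ h').symm
  obtain ⟨k, hk, hkk⟩ := hK.trans hp hΩ _ _ h1 h2
  refine ⟨g₂⁻¹ * k * g₁, ?_, ?_⟩
  · rw [mul_smul, mul_smul, hg₁, hK.fix k hk, inv_smul_eq_iff, hg₂]
  · rw [mul_smul, mul_smul, hkk, inv_smul_smul]

/-- an element fixing `a` and two further points is trivial -/
theorem Ker.fix3a [FaithfulSMul G Ω] : ∀ g : G, g • a = a → ∀ c c' : Ω, c ≠ a → c' ≠ a → c ≠ c' →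
    g • c = c → g • c' = c' → g = 1 := by
  intro g hga c c' hc hc' hcc hgc hgc'
  obtain ⟨k, hk, hkc⟩ := hK.trans hp hΩ c c' hc hc'
  have hk1 : k ≠ 1 := by
    rintro rfl
    rw [one_smul] at hkc
    exact hcc hkc
  have hcomm : g * k * g⁻¹ = k := by
    have h1 : (k⁻¹ * (g * k * g⁻¹)) • c = c := by
      have hginv : g⁻¹ • c = c := by rw [inv_smul_eq_iff, hgc]
      rw [mul_smul, mul_smul, mul_smul, hginv, hkc, hgc', ← hkc, inv_smul_smul]
    have h2 := hK.semi hp _ (P.mul_mem (P.inv_mem hk) (hK.norm g hga k hk)) c hc h1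
    exact (inv_mul_eq_one.1 h2).symm
  have hcomm' : g * k = k * g := by
    calc g * k = (g * k * g⁻¹) * g := by group
      _ = k * g := by rw [hcomm]
  have hgen : ∀ k' ∈ P, ∃ n : ℕ, k' = k ^ n := by
    intro k' hk'
    have : Fact (Nat.card P).Prime := ⟨by rw [hK.card]; exact hp⟩
    have h1 : (⟨k', hk'⟩ : P) ∈ Subgroup.zpowers (⟨k, hk⟩ : P) :=
      mem_zpowers_of_prime_card (G := P) rfl (fun h' => hk1 (congrArg Subtype.val h'))
    obtain ⟨n, hn⟩ := (mem_powers_iff_mem_zpowers.2 h1)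
    exact ⟨n, (congrArg Subtype.val hn).symm⟩
  apply FaithfulSMul.eq_of_smul_eq_smul (α := Ω)
  intro x
  rw [one_smul]
  by_cases hx : x = a
  · rw [hx, hga]
  · obtain ⟨k', hk', hk'c⟩ := hK.trans hp hΩ c x hc hx
    obtain ⟨n, rfl⟩ := hgen k' hk'
    have h1 : g * k ^ n = k ^ n * g := (Commute.pow_right hcomm' n)
    rw [← hk'c, ← mul_smul, h1, mul_smul, hgc]

/-- no nonidentity element fixes three points -/
theorem Ker.fix3 [FaithfulSMul G Ω] [MulAction.IsPretransitive G Ω] : ∀ g : G, ∀ x y z : Ω, x ≠ y →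
    y ≠ z → x ≠ z → g • x = x → g • y = y → g • z = z → g = 1 := by
  intro g x y z hxy hyz hxz hgx hgy hgz
  obtain ⟨g₁, hg₁⟩ := MulAction.exists_smul_eq G x a
  have h1 : g₁ * g * g₁⁻¹ = 1 := by
    apply hK.fix3a hp hΩ (g₁ * g * g₁⁻¹) ?_ (g₁ • y) (g₁ • z) ?_ ?_ ?_ ?_ ?_
    · rw [mul_smul, mul_smul, ← hg₁, inv_smul_smul, hgx]
    · intro h'
      rw [← hg₁] at h'
      exact hxy (MulAction.injective _ h').symm
    · intro h'
      rw [← hg₁] at h'
      exact hxz (MulAction.injective _ h').symm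
    · intro h'
      exact hyz (MulAction.injective _ h')
    · rw [mul_smul, mul_smul, inv_smul_smul, hgy]
    · rw [mul_smul, mul_smul, inv_smul_smul, hgz]
  calc g = g₁⁻¹ * (g₁ * g * g₁⁻¹) * g₁ := by group
    _ = 1 := by rw [h1]; group

/-- the point stabiliser is the product of `P` and a two-point stabiliser -/
theorem Ker.card_stab_eq {b : Ω} (hab : a ≠ b) :
    Nat.card (MulAction.stabilizer G a) =
      p * Nat.card ↥(MulAction.stabilizer G a ⊓ MulAction.stabilizer G b : Subgroup G) := by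
  rw [← hK.card, ← Nat.card_prod]
  symm
  apply Nat.card_congr
  refine Equiv.ofBijective (fun q : P × ↥(MulAction.stabilizer G a ⊓ MulAction.stabilizer G b :
    Subgroup G) => ⟨(q.1 : G) * (q.2 : G), ?_⟩) ⟨?_, ?_⟩
  · rw [MulAction.mem_stabilizer_iff, mul_smul,
      MulAction.mem_stabilizer_iff.1 (Subgroup.mem_inf.1 q.2.2).1, hK.fix _ q.1.2]
  · rintro ⟨k, ε⟩ ⟨k', ε'⟩ hq
    have hq' : (k : G) * ε = k' * ε' := congrArg Subtype.val hq
    have h1 : (k' : G)⁻¹ * k = ε' * (ε : G)⁻¹ := by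
      have : (k : G) = k' * ε' * (ε : G)⁻¹ := by rw [← hq']; group
      rw [this]
      group
    have h2 : (k' : G)⁻¹ * k ∈ P := P.mul_mem (P.inv_mem k'.2) k.2
    have h3 : ((k' : G)⁻¹ * k) • b = b := by
      rw [h1]
      exact MulAction.mem_stabilizer_iff.1 (Subgroup.mem_inf.1
        ((MulAction.stabilizer G a ⊓ MulAction.stabilizer G b).mul_mem ε'.2
          ((MulAction.stabilizer G a ⊓ MulAction.stabilizer G b).inv_mem ε.2))).2
    have h4 : (k' : G)⁻¹ * k = 1 := hK.semi hp _ h2 b hab.symm h3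
    have h5 : (k : G) = k' := (inv_mul_eq_one.1 h4).symm
    have h6 : (ε : G) = ε' := by
      rw [h5] at hq'
      exact mul_left_cancel hq'
    exact Prod.ext (Subtype.ext h5) (Subtype.ext h6)
  · rintro ⟨g, hg⟩
    rw [MulAction.mem_stabilizer_iff] at hg
    have hgb : g • b ≠ a := by
      intro hgb
      have : g • b = g • a := by rw [hgb, hg]
      exact hab (MulAction.injective _ this).symm
    obtain ⟨k, hk, hkb⟩ := hK.trans hp hΩ b (g • b) hab.symm hgb
    refine ⟨⟨⟨k, hk⟩, ⟨k⁻¹ * g, ?_⟩⟩, ?_⟩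
    · rw [Subgroup.mem_inf, MulAction.mem_stabilizer_iff, MulAction.mem_stabilizer_iff]
      constructor
      · rw [mul_smul, hg, inv_smul_eq_iff, hK.fix k hk]
      · rw [mul_smul, ← hkb, inv_smul_smul]
    · apply Subtype.ext
      show k * (k⁻¹ * g) = g
      group

/-- the order of the two-point stabilisers -/
theorem Ker.card_stab2 [MulAction.IsPretransitive G Ω] {d : ℕ}
    (hG : Nat.card G = (p + 1) * p * d) {b : Ω} (hab : a ≠ b) :
    Nat.card ↥(MulAction.stabilizer G a ⊓ MulAction.stabilizer G b : Subgroup G) = d := by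
  have h1 := hK.card_stab_eq hp hΩ hab
  rw [card_stab hΩ hG a] at h1
  exact (Nat.eq_of_mul_eq_mul_left hp.pos h1).symm

end

end Cfsg.Agent.Lib.Helper5.PP1
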