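import Cfsg.Agent.Lib.Helper5.PP1.Reg
import Cfsg.Agent.Lib.Helper5.Zass3.AbelKer3
import Cfsg.Agent.Lib.Helper5.Zass3.PrimeModel
import Mathlib

/-!
# Transitive groups of degree `p + 1` and order `(p + 1) p d`, `d < p`, without regular normal
subgroups

(author: helper5)  Such a group is a Zassenhaus group; either `d = p - 1`, or `2 d = p - 1` and the
group is isomorphic to `PSL₂(p)`.
-/

set_option autoImplicit false
set_option linter.unusedVariables false
set_option linter.unusedSectionVars false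
set_option linter.style.haveILetI false
open Cfsg

namespace Cfsg.Agent.Lib.Helper5.PP1

variable {G Ω : Type*} [Group G] [Finite G] [MulAction G Ω] [Fintype Ω]

set_option maxHeartbeats 800000 in
theorem case_two [FaithfulSMul G Ω] [MulAction.IsPretransitive G Ω] {p d : ℕ} (hp : p.Prime)
    (hΩ : Fintype.card Ω = p + 1) (hG : Nat.card G = (p + 1) * p * d) (hd : d < p)
    (hnoreg : ∀ N : Subgroup G, N.Normal → MulAction.IsPretransitive N Ω →
      ∃ a : Ω, MulAction.stabilizer N a ≠ ⊥) :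
    d = p - 1 ∨ (2 * d = p - 1 ∧
      Nonempty (G ≃* Matrix.ProjectiveSpecialLinearGroup (Fin 2) (ZMod p))) := by
  classical
  haveI : Fact p.Prime := ⟨hp⟩
  have hd0 : 0 < d := d_pos hG
  have hd2 : 2 ≤ d := by
    by_contra hlt
    have hd1 : d = 1 := by omega
    subst hd1
    obtain ⟨N, hN, hNt, hNs⟩ := regular_of_d_one hp hΩ hG
    obtain ⟨a, ha⟩ := hnoreg N hN hNt
    exact ha (hNs a)
  have hp2 := hp.two_le
  obtain ⟨a, b, hab⟩ : ∃ a b : Ω, a ≠ b := by
    have h1 : 1 < Fintype.card Ω := by omega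
    have : Nontrivial Ω := Fintype.one_lt_card_iff_nontrivial.1 h1
    obtain ⟨a, b, hab⟩ := exists_pair_ne Ω
    exact ⟨a, b, hab⟩
  obtain ⟨P, hK⟩ := exists_ker hp hΩ hG hd a
  have hE := hK.card_stab2 hp hΩ hG hab
  -- a nonidentity element fixing two points
  have hfix2 : ∃ g : G, g ≠ 1 ∧ ∃ x y : Ω, x ≠ y ∧ g • x = x ∧ g • y = y := by
    have h1 : 1 < Nat.card ↥(MulAction.stabilizer G a ⊓ MulAction.stabilizer G b : Subgroup G) := by
      omega
    have : Nontrivial ↥(MulAction.stabilizer G a ⊓ MulAction.stabilizer G b : Subgroup G) :=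
      Finite.one_lt_card_iff_nontrivial.1 h1
    obtain ⟨g, hg⟩ := exists_ne (1 : ↥(MulAction.stabilizer G a ⊓ MulAction.stabilizer G b :
      Subgroup G))
    have hg' := Subgroup.mem_inf.1 g.2
    exact ⟨g, fun h' => hg (Subtype.ext h'), a, b, hab, MulAction.mem_stabilizer_iff.1 hg'.1,
      MulAction.mem_stabilizer_iff.1 hg'.2⟩
  have hZ : Cfsg.IsZassenhausGroup G Ω :=
    ⟨inferInstance, MulAction.is_two_pretransitive_iff.2 (fun h1 h2 => hK.two_trans hp hΩ h1 h2),
      hK.fix3 hp hΩ, hfix2, hnoreg⟩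
  have hPle : P ≤ MulAction.stabilizer G a := fun k hk => hK.fix k hk
  have hPab : IsMulCommutative P := by
    have : Fact (Nat.card P).Prime := ⟨by rw [hK.card]; exact hp⟩
    have hc : IsCyclic P := isCyclic_of_prime_card (α := P) rfl
    exact ⟨⟨fun x y => hc.commGroup.mul_comm x y⟩⟩
  have hreg : ∀ y z : Ω, y ≠ a → z ≠ a → ∃! u : P, (u : G) • y = z := by
    intro y z hy hz
    obtain ⟨k, hk, hkyz⟩ := hK.trans hp hΩ y z hy hz
    refine ⟨⟨k, hk⟩, hkyz, ?_⟩
    intro u hu
    have h1 : ((u : G)⁻¹ * k) • y = y := by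
      rw [mul_smul, hkyz, ← hu, inv_smul_smul]
    have h2 := hK.semi hp _ (P.mul_mem (P.inv_mem u.2) hk) y hy h1
    apply Subtype.ext
    show (u : G) = k
    rw [inv_mul_eq_one] at h2
    exact h2
  rcases Cfsg.Agent.Lib.Helper5.Zass3.abelian_kernel_cases hZ hab P hPle hPab hreg with
    h1 | ⟨h1, hswap⟩
  · left
    rw [hE, hΩ] at h1
    omega
  · right
    rw [hE, hΩ] at h1
    refine ⟨by omega, ?_⟩
    have hp2' : p ≠ 2 := by omega
    have hE' : 2 * Nat.card ↥(MulAction.stabilizer G a ⊓ MulAction.stabilizer G b :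
        Subgroup G) = p - 1 := by rw [hE]; omega
    exact Cfsg.Agent.Lib.Helper5.Zass3.prime_model hZ hab p hp hp2' hΩ hE' hswap
      (F := ZMod p) (ZMod.card p)

end Cfsg.Agent.Lib.Helper5.PP1
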