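import Cfsg.Agent.Lib.Helper5.PP1.CaseII
import Cfsg.Prelude.Def_Perm
import Mathlib

/-!
# Transitive groups of degree `p + 1` and order `(p + 1) p d`, `d < p`: the trichotomy

(author: helper5)  Assembly of the three cases, with the identification of the sharply triply
transitive groups of degree `p + 1` with `PGL₂(p)` and the semi-affine description of the groups with a
regular normal subgroup as hypotheses.
-/

set_option autoImplicit false
set_option linter.unusedVariables false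
set_option linter.unusedSectionVars false
set_option linter.style.haveILetI false
open Cfsg

namespace Cfsg.Agent.Lib.Helper5.PP1

variable {G Ω : Type*} [Group G] [Finite G] [MulAction G Ω] [Fintype Ω]

set_option maxHeartbeats 800000 in
theorem trichotomy [FaithfulSMul G Ω] [MulAction.IsPretransitive G Ω] {p d : ℕ} (hp : p.Prime)
    (hΩ : Fintype.card Ω = p + 1) (hG : Nat.card G = (p + 1) * p * d) (hd : d < p)
    (hpgl : MulAction.IsMultiplyPretransitive G Ω 3 →
      (∀ x : Fin 3 ↪ Ω, MulAction.stabilizer G x = ⊥) →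
      Nonempty (G ≃* Matrix.ProjGenLinGroup (Fin 2) (ZMod p)))
    (hsemi : p ≠ 2 → ∀ (N : Subgroup G), N.Normal → MulAction.IsPretransitive N Ω →
      (∀ a : Ω, MulAction.stabilizer N a = ⊥) →
      ∃ q : ℕ, q.Prime ∧ p + 1 = 2 ^ q ∧ (d = 1 ∨ d = q) ∧ ∃ e : Ω ≃ GaloisField 2 q,
        ∀ g : G, ∃ σ ∈ Cfsg.semiaffineGroup (GaloisField 2 q), ∀ x, σ x = e (g • e.symm x)) :
    (d = p - 1 ∧ Nonempty (G ≃* Matrix.ProjGenLinGroup (Fin 2) (ZMod p))) ∨
    (2 * d = p - 1 ∧ Nonempty (G ≃* Matrix.ProjectiveSpecialLinearGroup (Fin 2) (ZMod p))) ∨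
    (∃ q : ℕ, q.Prime ∧ p + 1 = 2 ^ q ∧ (d = 1 ∨ d = q) ∧ ∃ e : Ω ≃ GaloisField 2 q,
      ∀ g : G, ∃ σ ∈ Cfsg.semiaffineGroup (GaloisField 2 q), ∀ x, σ x = e (g • e.symm x)) := by
  classical
  have hd0 : 0 < d := d_pos hG
  have hp2 := hp.two_le
  by_cases hdp : d = p - 1
  · -- sharply triply transitive
    left
    refine ⟨hdp, ?_⟩
    obtain ⟨a, b, hab⟩ : ∃ a b : Ω, a ≠ b := by
      have h1 : 1 < Fintype.card Ω := by omega
      have : Nontrivial Ω := Fintype.one_lt_card_iff_nontrivial.1 h1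
      obtain ⟨a, b, hab⟩ := exists_pair_ne Ω
      exact ⟨a, b, hab⟩
    obtain ⟨P, hK⟩ := exists_ker hp hΩ hG hd a
    have hE := hK.card_stab2 hp hΩ hG hab
    obtain ⟨h3, hsharp⟩ := Cfsg.Agent.Lib.Helper5.Zass3.sharp3_of_card'
      (fun h1 h2 => hK.two_trans hp hΩ h1 h2) (hK.fix3 hp hΩ) hab (by rw [hE, hΩ, hdp]; omega)
    exact hpgl h3 hsharp
  · right
    by_cases hnoreg : ∀ N : Subgroup G, N.Normal → MulAction.IsPretransitive N Ω →
        ∃ a : Ω, MulAction.stabilizer N a ≠ ⊥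
    · left
      rcases case_two hp hΩ hG hd hnoreg with h1 | h1
      · exact absurd h1 hdp
      · exact h1
    · right
      push Not at hnoreg
      obtain ⟨N, hN, hNt, hNs⟩ := hnoreg
      have hp2' : p ≠ 2 := by
        rintro rfl
        omega
      exact hsemi hp2' N hN hNt hNs

end Cfsg.Agent.Lib.Helper5.PP1
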