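import Cfsg.Agent.Lib.Helper5.PP1.Basic2
import Mathlib

/-!
# Sharply doubly transitive groups of degree `p + 1` with point stabiliser of prime order `p`

(author: helper5)  Such a group has a regular normal subgroup (Burnside's transfer theorem).
-/

set_option autoImplicit false
set_option linter.unusedVariables false
set_option linter.unusedSectionVars false
set_option linter.style.haveILetI false

namespace Cfsg.Agent.Lib.Helper5.PP1

variable {G Ω : Type*} [Group G] [Finite G] [MulAction G Ω] [Fintype Ω]

theorem regular_of_d_one [FaithfulSMul G Ω] [MulAction.IsPretransitive G Ω] {p : ℕ} (hp : p.Prime)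
    (hΩ : Fintype.card Ω = p + 1) (hG : Nat.card G = (p + 1) * p * 1) :
    ∃ N : Subgroup G, N.Normal ∧ MulAction.IsPretransitive N Ω ∧
      ∀ x : Ω, MulAction.stabilizer N x = ⊥ := by
  classical
  haveI : Fact p.Prime := ⟨hp⟩
  have hp1 : 1 < p := hp.one_lt
  obtain ⟨a⟩ : Nonempty Ω := by
    have : 0 < Fintype.card Ω := by omega
    exact Fintype.card_pos_iff.1 this
  obtain ⟨P, hK⟩ := exists_ker hp hΩ hG hp1 a
  have hGa : Nat.card (MulAction.stabilizer G a) = p := by
    have := card_stab hΩ hG a
    rwa [mul_one] at this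
  have hPle : P ≤ MulAction.stabilizer G a := fun k hk => hK.fix k hk
  have hPeq : P = MulAction.stabilizer G a :=
    Subgroup.eq_of_le_of_card_ge hPle (by rw [hGa, hK.card])
  have hfac : (Nat.card G).factorization p = 1 := by
    rw [hG, mul_one, Nat.factorization_mul (by omega) hp.ne_zero, Finsupp.add_apply,
      hp.factorization_self,
      Nat.factorization_eq_zero_of_not_dvd (fun h => by
        have h1 : p ∣ 1 := (Nat.dvd_add_right (dvd_refl p)).1 h
        have := Nat.le_of_dvd one_pos h1
        omega)]
  let P' : Sylow p G := Sylow.ofCard P (by rw [hK.card, hfac, pow_one])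
  have hP'coe : (P' : Subgroup G) = P := rfl
  have hcomm : ∀ x ∈ P, ∀ y ∈ P, x * y = y * x := by
    intro x hx y hy
    have : Fact (Nat.card P).Prime := ⟨by rw [hK.card]; exact hp⟩
    have hc : IsCyclic P := isCyclic_of_prime_card (α := P) rfl
    have h1 := hc.commGroup.mul_comm ⟨x, hx⟩ ⟨y, hy⟩
    exact congrArg Subtype.val h1
  have hnc : Subgroup.normalizer (P' : Set G) ≤ Subgroup.centralizer (P' : Set G) := by
    intro g hg
    -- `g` fixes `a`
    have hga : g • a = a := by
      by_contra hne
      obtain ⟨k, hk, hkc⟩ := hK.move (g • a) hne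
      apply hkc
      have h1 : g⁻¹ * k * g ∈ P := by
        have h2 := (Subgroup.mem_normalizer_iff'.1 hg (g⁻¹ * k * g))
        have h3 : g * (g⁻¹ * k * g) = k * g := by group
        have h4 : (g⁻¹ * k * g) * g = g⁻¹ * k * g * g := rfl
        have h5 : g * (g⁻¹ * k * g) * g⁻¹ = k := by group
        have := (Subgroup.mem_normalizer_iff.1 hg (g⁻¹ * k * g))
        rw [h5] at this
        exact this.2 hk
      have h6 := hK.fix _ h1
      rw [mul_smul, mul_smul, inv_smul_eq_iff] at h6
      exact h6
    have hgP : g ∈ P := by rw [hPeq]; exact hga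
    rw [Subgroup.mem_centralizer_iff]
    intro y hy
    exact (hcomm g hgP y hy).symm
  have hcompl := MonoidHom.ker_transferSylow_isComplement' P' hnc
  set N : Subgroup G := (MonoidHom.transferSylow P' hnc).ker with hN
  have hNcard : Nat.card N = p + 1 := by
    have h1 := hcompl.card_mul_card
    rw [hG, mul_one] at h1
    have h2 : Nat.card (P' : Subgroup G) = p := hK.card
    rw [h2] at h1
    exact Nat.eq_of_mul_eq_mul_right hp.pos h1
  have hstab : ∀ x : Ω, MulAction.stabilizer N x = ⊥ := by
    intro x
    rw [Subgroup.eq_bot_iff_forall]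
    intro n hn
    have hx : Nat.card (MulAction.stabilizer G x) = p := by
      have := card_stab hΩ hG x
      rwa [mul_one] at this
    have hcop : Nat.Coprime (Nat.card N) (Nat.card (MulAction.stabilizer G x)) := by
      rw [hNcard, hx, add_comm]
      exact (Nat.coprime_add_self_left).2 (Nat.coprime_one_left p)
    have h1 := (Subgroup.disjoint_of_coprime_natCard hcop).eq_bot
    have h2 : (n : G) ∈ N ⊓ MulAction.stabilizer G x :=
      ⟨n.2, MulAction.mem_stabilizer_iff.2 (MulAction.mem_stabilizer_iff.1 hn)⟩
    rw [h1, Subgroup.mem_bot] at h2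
    exact Subtype.ext h2
  refine ⟨N, inferInstance, ?_, hstab⟩
  constructor
  intro x y
  have hinj : Function.Injective (fun n : N => (n : G) • x) := by
    intro n n' hnn
    have h1 : (n'⁻¹ * n) ∈ MulAction.stabilizer N x := by
      rw [MulAction.mem_stabilizer_iff]
      show ((n' : G)⁻¹ * (n : G)) • x = x
      rw [mul_smul, inv_smul_eq_iff]
      exact hnn
    rw [hstab x, Subgroup.mem_bot] at h1
    exact (inv_mul_eq_one.1 h1).symm
  have hbij := hinj.bijective_of_nat_card_le (by
    rw [hNcard, Nat.card_eq_fintype_card (α := Ω), hΩ])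
  obtain ⟨n, hn⟩ := hbij.2 y
  exact ⟨n, hn⟩

end Cfsg.Agent.Lib.Helper5.PP1
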